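import Groth.Agent.SSMod.K807.Iface3
import Groth.Agent.SSMod.K761.Ends
import Groth.Agent.Sga4B.P1Hyper441

/-!
# Exceptional components from maps of the affine line or of the multiplicative group

`K648.Exc.main : K807.Iface.Exc`: a generically bijective map of `A^1` or `G_m` into the smooth locus of a nodal curve over
an algebraically closed field, contracted by a proper `f` contracting nothing clopen, and with few marked points, gives
an exceptional component.
-/

set_option autoImplicit false
universe u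
open CategoryTheory CategoryTheory.Limits AlgebraicGeometry TopologicalSpace IsLocalRing

namespace K648.Exc

open Groth.Agent Groth.Agent.Sga5.ProjSmooth Groth.Agent.Sga5.ProjHyper Groth.Agent.Sga4B.P1Hyper

section P1

variable (k : Type u) [Field k]

/-- The affine line in the projective line. -/
noncomputable def aff : Spec (CommRingCat.of (Polynomial k)) ⟶ CohB1.ProjSpace 1 k :=
  Spec.map (CommRingCat.ofHom (w k)) ≫ chart 1 k (Fin.last 1)

instance : IsOpenImmersion (aff k) := by
  unfold aff
  infer_instance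

theorem aff_toSpec : aff k ≫ CohB1.ProjSpace.toSpec 1 k =
    Spec.map (CommRingCat.ofHom (algebraMap k (Polynomial k))) := by
  rw [aff, Category.assoc, chart_toSpec, ← Spec.map_comp, ← CommRingCat.ofHom_comp]
  congr 2
  ext r
  simp [w]

theorem range_aff : Set.range (aff k) = Set.range (chart 1 k (Fin.last 1)) := by
  unfold aff
  rw [Scheme.Hom.comp_base, TopCat.coe_comp, Set.range_comp,
    (Spec.map (CommRingCat.ofHom (w k))).surjective.range_eq, Set.image_univ]

theorem encard_compl_range_aff : ((Set.range (aff k))ᶜ).encard ≤ 1 := by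
  rw [range_aff, ← range_hyper 0 k]
  rw [Set.encard_le_one_iff]
  have h1 : Function.Injective (CohB1.ProjSpace.toSpec 0 k) :=
    (CohB1.ProjSpace.toSpec 0 k).injective
  rintro _ _ ⟨a, rfl⟩ ⟨b, rfl⟩
  have : a = b := h1 (Subsingleton.elim _ _)
  rw [this]

variable (ℓ : Polynomial k)

/-- The localization. -/
noncomputable def loc : Spec (CommRingCat.of (Localization.Away ℓ)) ⟶ Spec (CommRingCat.of (Polynomial k)) :=
  Spec.map (CommRingCat.ofHom (algebraMap (Polynomial k) (Localization.Away ℓ)))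

instance : IsOpenImmersion (loc k ℓ) :=
  IsOpenImmersion.of_isLocalization ℓ

theorem range_loc : Set.range (loc k ℓ) = (PrimeSpectrum.basicOpen ℓ : Set (PrimeSpectrum (Polynomial k))) :=
  PrimeSpectrum.localization_away_comap_range (Localization.Away ℓ) ℓ

theorem encard_compl_range_loc (n : ℕ) (h : (n = 1 ∧ IsUnit ℓ) ∨ (n = 2 ∧ ℓ = Polynomial.X)) :
    ((Set.range (loc k ℓ))ᶜ).encard + 1 ≤ n := by
  rcases h with ⟨rfl, h⟩ | ⟨rfl, rfl⟩
  · have h1 : Set.range (loc k ℓ) = Set.univ := by
      rw [range_loc]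
      refine Set.eq_univ_iff_forall.2 fun x => ?_
      intro hx
      exact x.isPrime.ne_top (Ideal.eq_top_of_isUnit_mem _ hx h)
    rw [h1]
    simp
  · have h1 : ((Set.range (loc k (Polynomial.X : Polynomial k)))ᶜ).encard ≤ 1 := by
      rw [range_loc, Set.encard_le_one_iff]
      have key : ∀ a : PrimeSpectrum (Polynomial k),
          a ∈ ((PrimeSpectrum.basicOpen (Polynomial.X : Polynomial k) :
            Set (PrimeSpectrum (Polynomial k))))ᶜ → a.asIdeal = Ideal.span {Polynomial.X} := by
        intro a ha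
        have ha' : (Polynomial.X : Polynomial k) ∈ a.asIdeal := by
          by_contra hc
          exact ha hc
        have hm : (Ideal.span {(Polynomial.X : Polynomial k)}).IsMaximal :=
          PrincipalIdealRing.isMaximal_of_irreducible Polynomial.irreducible_X
        exact (hm.eq_of_le a.isPrime.ne_top ((Ideal.span_singleton_le_iff_mem _).2 ha')).symm
      intro a b ha hb
      exact PrimeSpectrum.ext ((key a ha).trans (key b hb).symm)
    calc _ ≤ (1 : ℕ∞) + 1 := by gcongr
      _ = ((2 : ℕ) : ℕ∞) := by norm_num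

/-- `A^1` or `G_m` in the projective line. -/
noncomputable def jj : Spec (CommRingCat.of (Localization.Away ℓ)) ⟶ CohB1.ProjSpace 1 k :=
  loc k ℓ ≫ aff k

instance : IsOpenImmersion (jj k ℓ) := by
  unfold jj
  infer_instance

theorem jj_toSpec : jj k ℓ ≫ CohB1.ProjSpace.toSpec 1 k =
    Spec.map (CommRingCat.ofHom (algebraMap k (Localization.Away ℓ))) := by
  rw [jj, Category.assoc, aff_toSpec, loc, ← Spec.map_comp, ← CommRingCat.ofHom_comp,
    ← IsScalarTower.algebraMap_eq]

theorem encard_compl_range_jj (n : ℕ) (h : (n = 1 ∧ IsUnit ℓ) ∨ (n = 2 ∧ ℓ = Polynomial.X)) :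
    ((Set.range (jj k ℓ))ᶜ).encard ≤ n := by
  have h1 : (Set.range (jj k ℓ))ᶜ ⊆ aff k '' (Set.range (loc k ℓ))ᶜ ∪ (Set.range (aff k))ᶜ := by
    intro x hx
    by_cases hx' : x ∈ Set.range (aff k)
    · left
      obtain ⟨y, rfl⟩ := hx'
      refine ⟨y, ?_, rfl⟩
      rintro ⟨z, rfl⟩
      exact hx ⟨z, by rw [jj, Scheme.Hom.comp_apply]⟩
    · exact Or.inr hx'
  refine (Set.encard_le_encard h1).trans ((Set.encard_union_le _ _).trans ?_)
  refine le_trans ?_ (encard_compl_range_loc k ℓ n h)
  exact add_le_add (Set.encard_image_le _ _) (encard_compl_range_aff k)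

end P1

section Points

variable {k : Type u} [Field k]

/-- In a nodal curve over a field, the closure of a non-closed point is an irreducible component. -/
theorem closure_mem {X : Scheme.{u}} (q : X ⟶ Spec (CommRingCat.of k)) (hX : Curv2.IsNodalFamily q) (x : X)
    (hx : ¬ IsClosed ({x} : Set X)) : closure ({x} : Set X) ∈ irreducibleComponents (X : Type u) := by
  have hd := CurvesB.NodeSch2.topologicalKrullDim_le_one_of_components (K761.Ends.nodal_field q hX).2
  have h0 := CurvesB.DimPts.ringKrullDim_stalk_eq_zero_of_not_isClosed hd x hx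
  rw [ringKrullDim_stalk_eq_coheight] at h0
  have h1 : Order.coheight x = 0 := by exact_mod_cast h0
  rw [Order.coheight_eq_zero] at h1
  rw [CurvesB.DimOneTop.closure_mem_irreducibleComponents_iff]
  intro y hy
  have h3 : x ≤ y := hy
  have h4 : y ≤ x := h1 h3
  exact (Specializes.antisymm hy (h4 : x ⤳ y)).eq

/-- The closure of the generic point is contracted. -/
theorem contracted {X X₀ V : Scheme.{u}} [CompactSpace V] [Nonempty V] (f : X ⟶ X₀)
    (q₀ : X₀ ⟶ Spec (CommRingCat.of k)) [LocallyOfFiniteType q₀] (h : V ⟶ X)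
    [LocallyOfFiniteType (h ≫ f ≫ q₀)]
    (v₀ : V) (hc : ∀ v v', f.base (h.base v) = f.base (h.base v')) :
    (f.base '' closure {h.base v₀}).Subsingleton := by
  have hJ : JacobsonSpace X₀ := LocallyOfFiniteType.jacobsonSpace q₀
  obtain ⟨v, -, hv⟩ := IsClosed.exists_closed_singleton (S := (Set.univ : Set V)) isClosed_univ
    Set.univ_nonempty
  have hlf : LocallyOfFiniteType ((h ≫ f) ≫ q₀) := by rwa [Category.assoc]
  have hlf' : LocallyOfFiniteType (h ≫ f) := locallyOfFiniteType_of_comp _ q₀
  have h1 : (h ≫ f) v ∈ closedPoints X₀ := (h ≫ f).closePoints_subset_preimage_closedPoints hv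
  rw [Scheme.Hom.comp_apply] at h1
  have h2 : closure {h.base v₀} ⊆ f.base ⁻¹' {f (h v)} := by
    apply closure_minimal _ (IsClosed.preimage f.continuous h1)
    rw [Set.singleton_subset_iff]
    exact hc v₀ v
  rintro _ ⟨x, hx, rfl⟩ _ ⟨y, hy, rfl⟩
  exact (h2 hx).trans (h2 hy).symm

end Points

theorem bij_residue {V W X : Scheme.{u}} (i : V ⟶ W) [IsIso i] (h : W ⟶ X) (v : V)
    (hres : Function.Bijective (h.residueFieldMap (i v)).hom) :
    Function.Bijective ((i ≫ h).residueFieldMap v).hom := by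
  have h1 : (i ≫ h).residueFieldMap v = h.residueFieldMap (i v) ≫ i.residueFieldMap v :=
    Scheme.residueFieldMap_comp _ _ _
  rw [h1]
  exact ((ConcreteCategory.isIso_iff_bijective (i.residueFieldMap v)).1 inferInstance).comp hres

theorem closure_inv {V W : Scheme.{u}} (i : V ≅ W) (v : W) (hv : closure {v} = Set.univ) :
    closure {i.inv v} = Set.univ := by
  have h1 : i.inv '' closure {v} = closure (i.inv '' {v}) :=
    (Scheme.homeoOfIso i.symm).image_closure _
  rw [Set.image_singleton, hv, Set.image_univ] at h1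
  rw [← h1]
  exact i.inv.surjective.range_eq

theorem main : K807.Iface.Exc.{u} := by
  intro k _ _ X X₀ q hX f q₀ _ _ _ hf hclo M ℓ h hh n hn hsm v₀ hv₀ hcl hres hc hM
  have hlft : LocallyOfFiniteType (h ≫ f ≫ q₀) := by
    rw [hf, hh, ← jj_toSpec]
    infer_instance
  have hne : Nonempty (Spec (CommRingCat.of (Localization.Away ℓ))) := ⟨v₀⟩
  have hZ := closure_mem q hX (h.base v₀) hcl
  have hfZ := contracted f q₀ h v₀ hc
  have hZo : ¬ IsOpen (closure {h.base v₀}) := by
    intro ho
    have := hclo _ ⟨isClosed_closure, ho⟩ hfZ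
    exact Set.notMem_empty _ (this ▸ subset_closure (Set.mem_singleton (h.base v₀)))
  have hn2 : n ≤ 2 := by
    rcases hn with ⟨rfl, -⟩ | ⟨rfl, -⟩ <;> omega
  let i : ((jj k ℓ).opensRange : Scheme.{u}) ≅ Spec (CommRingCat.of (Localization.Away ℓ)) :=
    (jj k ℓ).isoOpensRange.symm
  have hi : i.hom ≫ jj k ℓ = (jj k ℓ).opensRange.ι := (jj k ℓ).isoOpensRange_inv_comp
  let v₁ : ((jj k ℓ).opensRange : Scheme.{u}) := i.inv v₀
  have hv₁ : i.hom v₁ = v₀ := by
    change i.hom (i.inv v₀) = v₀
    rw [← Scheme.Hom.comp_apply, Iso.inv_hom_id]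
    rfl
  obtain ⟨e, he1, he2, he3, B, hB1, hB2⟩ := K761.Ends.main k q hX f q₀ hf _ hZ hfZ hZo
    (jj k ℓ).opensRange n hn2 (encard_compl_range_jj k ℓ n hn) (i.hom ≫ h)
    (by rw [Category.assoc, hh, ← jj_toSpec, ← Category.assoc, hi]) (fun v => hsm _) v₁
    (closure_inv i v₀ hv₀)
    (by
      change closure {h (i.hom v₁)} = _
      rw [hv₁])
    (bij_residue i.hom h v₁ (by rw [hv₁]; exact hres))
  refine ⟨_, hZ, ⟨e, he1, he2, he3⟩, ?_, hfZ⟩
  have hrange : Set.range (i.hom ≫ h).base ⊆ Set.range h.base := by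
    rintro _ ⟨v, rfl⟩
    exact ⟨i.hom v, (Scheme.Hom.comp_apply _ _ _).symm⟩
  have hsub : closure {h.base v₀} ∩ (M ∪ DualGr.nonsmoothPts q) ⊆ (Set.range h.base ∩ M) ∪ B := by
    rintro x ⟨hx1, hx2⟩
    rcases hB2 hx1 with hx | hx
    · obtain ⟨v, rfl⟩ := hrange hx
      rcases hx2 with hx2 | hx2
      · exact Or.inl ⟨⟨v, rfl⟩, hx2⟩
      · exact (hsm v hx2).elim
    · exact Or.inr hx
  refine (Set.encard_le_encard hsub).trans ((Set.encard_union_le _ _).trans (le_trans ?_ hM))
  gcongr

end K648.Exc
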